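import Cfsg.Agent.H209.IF.Kill
import Cfsg.Agent.LieClassical.HermSiegel

/-!
# S5719, cell `PSU_4(q)`, `q` odd: definitions (helper766)
-/

set_option autoImplicit false

namespace Cfsg.Agent.H766.IFU

open Cfsg Cfsg.Agent.LieClassical.HermBasic Cfsg.Agent.LieClassical.HermSiegel

variable {F : Type*} [Field F] {q : ℕ}

/-- the projection -/
def pr (F : Type*) [Field F] (q : ℕ) : SU 4 F q →* PSU 4 F q := QuotientGroup.mk' (Subgroup.center (SU 4 F q))

theorem pr_surjective : Function.Surjective (pr F q) := QuotientGroup.mk'_surjective _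

/-- involutions of `SU_4(q)` different from `-1` (eigenspaces of dimension 2): type `z` -/
structure IsZ (s : SU 4 F q) : Prop where
  sq : s * s = 1
  ne_one : s ≠ 1
  ne_neg : ∃ v : Fin 4 → F, act s v ≠ -v

/-- type `y`: square `-1` (only used for `q ≡ 1 (mod 4)`) -/
def IsY (s : SU 4 F q) : Prop := ∀ v : Fin 4 → F, act s (act s v) = -v

/-- type `w`: a scalar multiple of a reflection -/
structure IsW (s : SU 4 F q) (v : Fin 4 → F) (μ : F) : Prop where
  ne : hermForm 4 F q v v ≠ 0
  self : act s v = -(μ • v)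
  perp : ∀ x : Fin 4 → F, hermForm 4 F q x v = 0 → act s x = μ • x

/-- `x` is trivial on one of the two eigenspaces of `s` -/
def Half (s x : SU 4 F q) : Prop := (∀ v, act s v = v → act x v = v) ∨ (∀ v, act s v = -v → act x v = v)

end Cfsg.Agent.H766.IFU
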